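import Mathlib
import Groth.Agent.Et18.Descent

/-!
# Descent along flat covers which need not be quasi-compact
-/

open CategoryTheory CategoryTheory.Limits AlgebraicGeometry

universe u

set_option backward.isDefEq.respectTransparency.types false

namespace Groth.Agent.ZeroCyc

variable {X Y : Scheme.{u}} (f : X ⟶ Y)

theorem isHomeomorph_of_flat_family [QuasiCompact f]
    (hcov : ∀ y : Y, ∃ (Y' : Scheme.{u}) (g : Y' ⟶ Y), Flat g ∧ y ∈ Set.range g ∧
      IsHomeomorph (pullback.snd f g).base) : IsHomeomorph f.base := by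
  have hinj : Function.Injective f := by
    intro x₁ x₂ h
    obtain ⟨Y', g, -, ⟨y', hy'⟩, hg⟩ := hcov (f x₁)
    obtain ⟨p₁, hp₁, hq₁⟩ := Scheme.Pullback.exists_preimage_pullback x₁ y' hy'.symm
    obtain ⟨p₂, hp₂, hq₂⟩ := Scheme.Pullback.exists_preimage_pullback x₂ y' (h.symm.trans hy'.symm)
    have : p₁ = p₂ := hg.injective (hq₁.trans hq₂.symm)
    rw [← hp₁, ← hp₂, this]
  have hlift : ∀ (Y' : Scheme.{u}) (g : Y' ⟶ Y) (p : ↑(pullback f g)),
      f (pullback.fst f g p) = g (pullback.snd f g p) := fun Y' g p => by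
    rw [← Scheme.Hom.comp_apply, pullback.condition, Scheme.Hom.comp_apply]
  have hsurj : Function.Surjective f := fun y => by
    obtain ⟨Y', g, -, ⟨y', rfl⟩, hg⟩ := hcov y
    obtain ⟨p, hp⟩ := hg.surjective y'
    exact ⟨pullback.fst f g p, (hlift _ _ p).trans (congrArg g hp)⟩
  have hclosed : IsClosedMap f := by
    rw [isClosedMap_iff_specializingMap]
    intro x y₀ h
    obtain ⟨Y', g, hgflat, ⟨y₀', rfl⟩, hg⟩ := hcov y₀
    obtain ⟨y', hy', hy'eq⟩ := Flat.generalizingMap g h
    obtain ⟨p, hp, hq⟩ := Scheme.Pullback.exists_preimage_pullback x y' hy'eq.symm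
    obtain ⟨p₀, hp₀⟩ := hg.surjective y₀'
    refine ⟨pullback.fst f g p₀, ?_, (hlift _ _ p₀).trans (congrArg g hp₀)⟩
    have hsp : p ⤳ p₀ := by
      rw [← hg.isInducing.specializes_iff]
      change pullback.snd f g p ⤳ pullback.snd f g p₀
      rw [hq, show pullback.snd f g p₀ = y₀' from hp₀]
      exact hy'
    exact hp ▸ hsp.map (pullback.fst f g).continuous
  exact isHomeomorph_iff_continuous_isClosedMap_bijective.2 ⟨f.continuous, hclosed, hinj, hsurj⟩

theorem isIso_pullback_snd_of_isPullback {Y' Y'' : Scheme.{u}} (g : Y' ⟶ Y) (h : Y'' ⟶ Y')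
    [IsIso (pullback.snd f g)] : IsIso (pullback.snd f (h ≫ g)) := by
  have hsq : IsPullback (pullback.fst (pullback.snd f g) h ≫ pullback.fst f g)
      (pullback.snd (pullback.snd f g) h) f (h ≫ g) :=
    (IsPullback.of_hasPullback _ _).paste_horiz (IsPullback.of_hasPullback f g)
  rw [show pullback.snd f (h ≫ g) = hsq.isoPullback.inv ≫ pullback.snd (pullback.snd f g) h from by simp]
  infer_instance

theorem flat_SpecMap_stalkMap {Y' : Scheme.{u}} (g : Y' ⟶ Y) [Flat g] (y' : Y') :
    Flat (Spec.map (g.stalkMap y')) ∧ Surjective (Spec.map (g.stalkMap y')) := by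
  rw [flat_and_surjective_SpecMap_iff]
  letI := (g.stalkMap y').hom.toAlgebra
  haveI : Module.Flat (Y.presheaf.stalk (g y')) (Y'.presheaf.stalk y') := Flat.stalkMap g y'
  haveI : IsLocalHom (algebraMap (Y.presheaf.stalk (g y')) (Y'.presheaf.stalk y')) :=
    inferInstanceAs (IsLocalHom (g.stalkMap y').hom)
  exact RingHom.faithfullyFlat_algebraMap_iff.2 Module.FaithfullyFlat.of_flat_of_isLocalHom

/-- An isomorphism after base change to every local ring is an isomorphism on stalks. -/
theorem isIso_stalkMap_of_isIso_pullback (x : X)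
    [IsIso (pullback.snd f (Y.fromSpecStalk (f x)))] : IsIso (f.stalkMap x) := by
  let q := pullback.snd f (Y.fromSpecStalk (f x))
  let s : Spec (Y.presheaf.stalk (f x)) ⟶ X := inv q ≫ pullback.fst f (Y.fromSpecStalk (f x))
  have hs : s ≫ f = Y.fromSpecStalk (f x) := by simp [s, q, pullback.condition]
  have hx : X.fromSpecStalk x = Spec.map (f.stalkMap x) ≫ s := by
    have hl := pullback.lift_snd (f := f) (g := Y.fromSpecStalk (f x)) (X.fromSpecStalk x)
      (Spec.map (f.stalkMap x)) (Scheme.SpecMap_stalkMap_fromSpecStalk f).symm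
    conv_lhs => rw [← pullback.lift_fst (f := f) (g := Y.fromSpecStalk (f x)) (X.fromSpecStalk x)
      (Spec.map (f.stalkMap x)) (Scheme.SpecMap_stalkMap_fromSpecStalk f).symm]
    conv_rhs => rw [← hl]
    simp [s, q]
  have hclosed : s (IsLocalRing.closedPoint (Y.presheaf.stalk (f x))) = x := by
    have h1 := congrArg (fun φ : Spec (X.presheaf.stalk x) ⟶ X => φ (IsLocalRing.closedPoint _)) hx
    simp only [Scheme.fromSpecStalk_closedPoint, Scheme.Hom.comp_apply, Spec_closedPoint] at h1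
    exact h1.symm
  have hfac : ∀ (z : X), s (IsLocalRing.closedPoint (Y.presheaf.stalk (f x))) = z →
      ∃ φ : X.presheaf.stalk z ⟶ Y.presheaf.stalk (f x), Spec.map φ ≫ X.fromSpecStalk z = s := by
    rintro z rfl
    exact ⟨_, Scheme.Spec_stalkClosedPointTo_fromSpecStalk _⟩
  obtain ⟨φ, hφ⟩ := hfac x hclosed
  have : IsIso (Spec.map (f.stalkMap x)) := by
    refine ⟨Spec.map φ, ?_, ?_⟩
    · rw [← cancel_mono (X.fromSpecStalk x), Category.assoc, hφ, ← hx, Category.id_comp]
    · rw [← cancel_mono (Y.fromSpecStalk (f x)), Category.assoc, Scheme.SpecMap_stalkMap_fromSpecStalk,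
        reassoc_of% hφ, hs, Category.id_comp]
  rwa [AlgebraicGeometry.isIso_SpecMap_iff, ← ConcreteCategory.isIso_iff_bijective] at this

theorem isIso_of_flat_family [QuasiCompact f]
    (hcov : ∀ y : Y, ∃ (Y' : Scheme.{u}) (g : Y' ⟶ Y), Flat g ∧ y ∈ Set.range g ∧
      IsIso (pullback.snd f g)) : IsIso f := by
  have hhom : IsHomeomorph f.base := isHomeomorph_of_flat_family f fun y => by
    obtain ⟨Y', g, h₁, h₂, h₃⟩ := hcov y
    exact ⟨Y', g, h₁, h₂, (pullback.snd f g).homeomorph.isHomeomorph⟩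
  have hst : ∀ x, IsIso (f.stalkMap x) := by
    intro x
    obtain ⟨Y', g, hflat, ⟨y', hy'⟩, hg⟩ := hcov (f x)
    have key : ∀ y, g y' = y → IsIso (pullback.snd f (Y.fromSpecStalk y)) := by
      rintro y rfl
      obtain ⟨h1, h2⟩ := flat_SpecMap_stalkMap g y'
      haveI : IsIso (pullback.snd f (Y'.fromSpecStalk y' ≫ g)) :=
        isIso_pullback_snd_of_isPullback f g (Y'.fromSpecStalk y')
      have hcomp : IsPullback
          (pullback.lift (pullback.fst f (Y'.fromSpecStalk y' ≫ g))
            (pullback.snd f (Y'.fromSpecStalk y' ≫ g) ≫ Spec.map (g.stalkMap y'))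
            (by rw [Category.assoc, Scheme.SpecMap_stalkMap_fromSpecStalk, pullback.condition]))
          (pullback.snd f (Y'.fromSpecStalk y' ≫ g)) (pullback.snd f (Y.fromSpecStalk (g y')))
          (Spec.map (g.stalkMap y')) := by
        refine IsPullback.of_right ?_ (by rw [pullback.lift_snd]) (IsPullback.of_hasPullback f _)
        rw [pullback.lift_fst, Scheme.SpecMap_stalkMap_fromSpecStalk]
        exact IsPullback.of_hasPullback _ _
      exact MorphismProperty.of_isPullback_of_descendsAlong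
        (P := MorphismProperty.isomorphisms Scheme.{u}) (Q := Et18.FPQC.{u}) hcomp.flip
        ⟨⟨h2, h1⟩, inferInstance⟩ (inferInstanceAs (IsIso (pullback.snd f (Y'.fromSpecStalk y' ≫ g))))
    haveI := key _ hy'
    exact isIso_stalkMap_of_isIso_pullback f x
  haveI : IsOpenImmersion f := IsOpenImmersion.of_isIso_stalkMap f hhom.isOpenEmbedding
  exact (isIso_iff_isOpenImmersion_and_surjective f).2 ⟨inferInstance, ⟨hhom.surjective⟩⟩

/-- A quasi-compact quasi-separated scheme over an affine one which is affine flat locally is affine. -/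
theorem isAffine_of_flat_family [IsAffine Y] [CompactSpace X] [QuasiSeparatedSpace X]
    (hcov : ∀ y : Y, ∃ (W : Scheme.{u}) (w : W ⟶ Y), Flat w ∧ IsAffine W ∧ y ∈ Set.range w ∧
      IsAffine (pullback w f)) : IsAffine X := by
  let h : Spec Γ(X, ⊤) ⟶ Y := Spec.map f.appTop ≫ Y.isoSpec.inv
  have hh : X.toSpecΓ ≫ h = f := by
    simp [h, ← Scheme.toSpecΓ_naturality_assoc]
  refine ⟨isIso_of_flat_family X.toSpecΓ fun t => ?_⟩
  obtain ⟨W, w, hw, hW, ⟨v, hv⟩, haff⟩ := hcov (h t)
  let q : pullback w f ⟶ pullback h w :=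
    pullback.lift (pullback.snd w f ≫ X.toSpecΓ) (pullback.fst w f)
      (by rw [Category.assoc, hh, pullback.condition])
  have hsq : IsPullback (pullback.snd w f) q X.toSpecΓ (pullback.fst h w) := by
    refine IsPullback.of_bot (v₂₁ := pullback.snd h w) (v₂₂ := h) (h₃₁ := w) ?_ ?_
      (IsPullback.of_hasPullback h w)
    · rw [hh, pullback.lift_snd]
      exact (IsPullback.of_hasPullback w f).flip
    · rw [pullback.lift_fst]
  have hout := Et18.isPushout_appTop_of_flat (IsPullback.of_hasPullback w f).flip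
  have htop := Et18.isPushout_appTop_of_flat (IsPullback.of_hasPullback h w)
  have hsqΓ : IsPushout (pullback.fst h w).appTop X.toSpecΓ.appTop q.appTop
      (pullback.snd w f).appTop := by
    refine (htop.flip.paste_vert_iff ?_).mp ?_
    · rw [← Scheme.Hom.comp_appTop, ← Scheme.Hom.comp_appTop, pullback.lift_fst]
    · rw [← Scheme.Hom.comp_appTop, ← Scheme.Hom.comp_appTop, hh, pullback.lift_snd]
      exact hout.flip
  have : IsIso X.toSpecΓ.appTop := by rw [Scheme.toSpecΓ_appTop]; infer_instance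
  have : IsIso q.appTop := hsqΓ.isIso_inl_of_isIso
  have hq : IsIso q := Et18.isIso_of_isIso_appTop q
  obtain ⟨p, hp, -⟩ := Scheme.Pullback.exists_preimage_pullback (f := h) (g := w) t v hv.symm
  refine ⟨_, pullback.fst h w, inferInstance, ⟨p, hp⟩, ?_⟩
  rw [show pullback.snd X.toSpecΓ (pullback.fst h w) = hsq.isoPullback.inv ≫ q from by simp]
  infer_instance

theorem isAffineHom_of_flat_surjective {Y' : Scheme.{u}} (g : Y' ⟶ Y) [Flat g] [Surjective g]
    [QuasiCompact f] [QuasiSeparated f] (haff : IsAffineHom (pullback.snd f g)) : IsAffineHom f := by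
  refine ⟨fun V hV => ?_⟩
  haveI : IsAffine V := hV
  haveI : CompactSpace (f ⁻¹ᵁ V).toScheme := QuasiCompact.compactSpace_of_compactSpace (f ∣_ V)
  haveI : QuasiSeparatedSpace (f ⁻¹ᵁ V).toScheme := quasiSeparatedSpace_of_quasiSeparated (f ∣_ V)
  refine isAffine_of_flat_family (f ∣_ V) fun y => ?_
  obtain ⟨y', hy'⟩ := g.surjective y.1
  obtain ⟨_, ⟨W, hW, rfl⟩, hy'W, hWV⟩ := Y'.isBasis_affineOpens.exists_subset_of_mem_open
    (show y' ∈ g ⁻¹ᵁ V by change g y' ∈ V; rw [hy']; exact y.2) (g ⁻¹ᵁ V).isOpen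
  let w : Scheme.Opens.toScheme W ⟶ V.toScheme := g.resLE V W hWV
  refine ⟨_, w, inferInstance, hW, ⟨⟨y', hy'W⟩, ?_⟩, ?_⟩
  · apply V.ι.injective
    rw [← Scheme.Hom.comp_apply, Scheme.Hom.resLE_comp_ι, Scheme.Hom.comp_apply]
    exact hy'
  have h1 : IsPullback (pullback.snd w (f ∣_ V) ≫ (f ⁻¹ᵁ V).ι) (pullback.fst w (f ∣_ V)) f ((Scheme.Opens.ι W) ≫ g) := by
    have := (IsPullback.of_hasPullback w (f ∣_ V)).flip.paste_horiz (isPullback_morphismRestrict f V).flip
    rwa [Scheme.Hom.resLE_comp_ι] at this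
  haveI : IsAffineHom (pullback.fst w (f ∣_ V)) := by
    refine MorphismProperty.of_isPullback (P := @IsAffineHom)
      (f := (Scheme.Opens.ι W)) (g := pullback.snd f g)
      (g' := pullback.fst w (f ∣_ V))
      (f' := pullback.lift (pullback.snd w (f ∣_ V) ≫ (f ⁻¹ᵁ V).ι) (pullback.fst w (f ∣_ V) ≫ (Scheme.Opens.ι W))
        (by rw [h1.w, Category.assoc])) ?_ haff
    refine IsPullback.of_right ?_ (by rw [pullback.lift_snd]) (IsPullback.of_hasPullback f g)
    rw [pullback.lift_fst]
    exact h1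
  haveI : IsAffine (Scheme.Opens.toScheme W) := hW
  exact isAffine_of_isAffineHom (pullback.fst w (f ∣_ V))

end Groth.Agent.ZeroCyc
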