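import Mathlib

/-!
# Polynomial laws are determined by polynomial rings
-/

universe u v w

open scoped TensorProduct

namespace Groth.Agent.ZeroCyc

variable {A : Type u} [CommRing A] {M : Type v} [AddCommGroup M] [Module A M] {N : Type w} [AddCommGroup N]
  [Module A N] (T : ∀ n : ℕ, MvPolynomial (Fin n) A ⊗[A] M → MvPolynomial (Fin n) A ⊗[A] N)
  (hT : ∀ (n m : ℕ) (φ : MvPolynomial (Fin n) A →ₐ[A] MvPolynomial (Fin m) A),
            φ.toLinearMap.rTensor N ∘ T n = T m ∘ φ.toLinearMap.rTensor M)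

include hT in
theorem compat_apply {n m : ℕ} (φ : MvPolynomial (Fin n) A →ₐ[A] MvPolynomial (Fin m) A)
    (p : MvPolynomial (Fin n) A ⊗[A] M) :
    φ.toLinearMap.rTensor N (T n p) = T m (φ.toLinearMap.rTensor M p) :=
  congrFun (hT n m φ) p

theorem rTensor_comp_algHom {B C D : Type*} [CommSemiring B] [Algebra A B] [CommSemiring C] [Algebra A C]
    [CommSemiring D] [Algebra A D] (g : C →ₐ[A] D) (f : B →ₐ[A] C) (z : B ⊗[A] M) :
    (g.comp f).toLinearMap.rTensor M z = g.toLinearMap.rTensor M (f.toLinearMap.rTensor M z) := by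
  rw [AlgHom.comp_toLinearMap, LinearMap.rTensor_comp_apply]

include hT in
/-- Two lifts differing by an element of `ker ρ ⊗ M` have the same image. -/
theorem eq_of_sub_eq_sum {m : ℕ} {S : Type*} [CommSemiring S] [Algebra A S] (ρ : MvPolynomial (Fin m) A →ₐ[A] S)
    {r : ℕ} (k : Fin r → MvPolynomial (Fin m) A) (hk : ∀ i, ρ (k i) = 0) (x : Fin r → M)
    (p q : MvPolynomial (Fin m) A ⊗[A] M) (h : p = q + ∑ i, k i ⊗ₜ[A] x i) :
    ρ.toLinearMap.rTensor N (T m p) = ρ.toLinearMap.rTensor N (T m q) := by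
  let ι : MvPolynomial (Fin m) A →ₐ[A] MvPolynomial (Fin (m + r)) A := MvPolynomial.rename (Fin.castAdd r)
  let e := ι.toLinearMap.rTensor M q + ∑ i, (MvPolynomial.X (Fin.natAdd m i) : MvPolynomial (Fin (m + r)) A) ⊗ₜ[A] x i
  let α : (Fin r → MvPolynomial (Fin m) A) → MvPolynomial (Fin (m + r)) A →ₐ[A] MvPolynomial (Fin m) A :=
    fun c => MvPolynomial.aeval (Fin.append MvPolynomial.X c)
  have hι : ∀ c, (α c).comp ι = AlgHom.id A _ := fun c => MvPolynomial.algHom_ext fun i => by simp [α, ι]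
  have hα : ∀ c, (α c).toLinearMap.rTensor M e = q + ∑ i, c i ⊗ₜ[A] x i := fun c => by
    rw [map_add, map_sum, ← rTensor_comp_algHom, hι]
    simp [α]
  have h0 : (α 0).toLinearMap.rTensor M e = q := by rw [hα]; simp
  have hρ : ρ.comp (α k) = ρ.comp (α 0) := MvPolynomial.algHom_ext fun i => by
    induction i using Fin.addCases with
    | left i => simp [α]
    | right i => simp [α, hk]
  rw [h, ← hα k, ← compat_apply T hT, ← rTensor_comp_algHom, hρ, rTensor_comp_algHom, compat_apply T hT, h0]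

include hT in
theorem lift_unique {S : Type u} [CommSemiring S] [Algebra A S] {n : ℕ}
    (ω : MvPolynomial (Fin n) A →ₐ[A] S) (p q : MvPolynomial (Fin n) A ⊗[A] M)
    (h : ω.toLinearMap.rTensor M p = ω.toLinearMap.rTensor M q) :
    ω.toLinearMap.rTensor N (T n p) = ω.toLinearMap.rTensor N (T n q) := by
  classical
  letI : AddCommGroup S := Module.addCommMonoidToAddCommGroup A
  let ρ : MvPolynomial S A →ₐ[A] S := MvPolynomial.aeval id
  let ι : Fin n → S := fun i => ω (MvPolynomial.X i)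
  have hρsurj : Function.Surjective ρ.toLinearMap := fun s => ⟨MvPolynomial.X s, by simp [ρ]⟩
  have hρι : ρ.comp (MvPolynomial.rename ι) = ω := MvPolynomial.algHom_ext fun i => by simp [ρ, ι]
  have hd : ρ.toLinearMap.rTensor M
      ((MvPolynomial.rename ι).toLinearMap.rTensor M p - (MvPolynomial.rename ι).toLinearMap.rTensor M q) = 0 := by
    rw [map_sub, ← rTensor_comp_algHom, ← rTensor_comp_algHom, hρι, h, sub_self]
  obtain ⟨w, hw⟩ := (rTensor_exact M (LinearMap.exact_subtype_ker_map ρ.toLinearMap) hρsurj _).1 hd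
  obtain ⟨F, rfl⟩ := TensorProduct.exists_finset w
  let s : Finset S := Finset.univ.image ι ∪ F.biUnion fun z => (z.1 : MvPolynomial S A).vars
  let j : Fin s.card → S := fun i => (s.equivFin.symm i : S)
  have hj : Function.Injective j := Subtype.val_injective.comp s.equivFin.symm.injective
  have hjr : ∀ x ∈ s, x ∈ Set.range j := fun x hx => ⟨s.equivFin ⟨x, hx⟩, by simp [j]⟩
  have hι' : ∀ i, ∃ a, j a = ι i := fun i =>
    hjr _ (Finset.mem_union_left _ (Finset.mem_image.2 ⟨i, Finset.mem_univ _, rfl⟩))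
  choose ι' hι'eq using hι'
  have hk : ∀ z : F, ∃ k : MvPolynomial (Fin s.card) A, MvPolynomial.rename j k = (z.1.1 : MvPolynomial S A) :=
    fun z => MvPolynomial.exists_rename_eq_of_vars_subset_range _ j hj fun x hx =>
      hjr x (Finset.mem_union_right _ (Finset.mem_biUnion.2 ⟨z.1, z.2, hx⟩))
  choose k hkeq using hk
  let θ : MvPolynomial (Fin n) A →ₐ[A] MvPolynomial (Fin s.card) A := MvPolynomial.rename ι'
  have hθ : (MvPolynomial.rename j).comp θ = MvPolynomial.rename (R := A) ι :=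
    MvPolynomial.algHom_ext fun i => by simp [θ, hι'eq]
  let e := F.equivFin.symm
  let ρ' := ρ.comp (MvPolynomial.rename j)
  have hker : ∀ i, ρ' (k (e i)) = 0 := fun i => by
    simp only [ρ', AlgHom.comp_apply, hkeq]
    exact (e i).1.1.2
  have hdec : θ.toLinearMap.rTensor M p = θ.toLinearMap.rTensor M q + ∑ i, k (e i) ⊗ₜ[A] (e i).1.2 := by
    have hret : (MvPolynomial.killCompl hj).comp (MvPolynomial.rename (R := A) j) = AlgHom.id A _ :=
      AlgHom.ext fun z => MvPolynomial.killCompl_rename_app hj z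
    have hinj : Function.Injective ((MvPolynomial.rename (R := A) j).toLinearMap.rTensor M) := fun a b hab => by
      have := congrArg ((MvPolynomial.killCompl (R := A) hj).toLinearMap.rTensor M) hab
      rwa [← rTensor_comp_algHom, ← rTensor_comp_algHom, hret, AlgHom.toLinearMap_id, LinearMap.rTensor_id] at this
    apply hinj
    rw [map_add, map_sum, ← rTensor_comp_algHom, ← rTensor_comp_algHom, hθ]
    refine sub_eq_iff_eq_add'.1 (hw.symm.trans ?_)
    rw [map_sum, ← F.sum_coe_sort, ← e.sum_comp]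
    refine Finset.sum_congr rfl fun i _ => ?_
    simp [hkeq]
  have h1 := eq_of_sub_eq_sum T hT ρ' (fun i => k (e i)) hker (fun i => (e i).1.2) _ _ hdec
  have hω : ρ'.comp θ = ω := by rw [AlgHom.comp_assoc, hθ, hρι]
  rw [← compat_apply T hT, ← compat_apply T hT, ← rTensor_comp_algHom, ← rTensor_comp_algHom, hω] at h1
  exact h1

include hT in
theorem lift_unique₂ {S : Type u} [CommSemiring S] [Algebra A S] {n m : ℕ}
    (ψ : MvPolynomial (Fin n) A →ₐ[A] S) (χ : MvPolynomial (Fin m) A →ₐ[A] S)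
    (p : MvPolynomial (Fin n) A ⊗[A] M) (q : MvPolynomial (Fin m) A ⊗[A] M)
    (h : ψ.toLinearMap.rTensor M p = χ.toLinearMap.rTensor M q) :
    ψ.toLinearMap.rTensor N (T n p) = χ.toLinearMap.rTensor N (T m q) := by
  let ω : MvPolynomial (Fin (n + m)) A →ₐ[A] S :=
    MvPolynomial.aeval (Fin.append (fun i => ψ (MvPolynomial.X i)) (fun i => χ (MvPolynomial.X i)))
  have hl : ω.comp (MvPolynomial.rename (Fin.castAdd m)) = ψ := MvPolynomial.algHom_ext fun i => by simp [ω]
  have hr : ω.comp (MvPolynomial.rename (Fin.natAdd n)) = χ := MvPolynomial.algHom_ext fun i => by simp [ω]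
  rw [← hl, ← hr, rTensor_comp_algHom, rTensor_comp_algHom] at h
  have := lift_unique T hT ω _ _ h
  rwa [← compat_apply T hT, ← compat_apply T hT, ← rTensor_comp_algHom, ← rTensor_comp_algHom, hl, hr] at this

theorem restrict_bijective :
    Function.Bijective (fun F : M →ₚₗ[A] N =>
      (⟨fun n => F.toFun' (MvPolynomial (Fin n) A), fun n m φ => F.isCompat' φ⟩ :
        {T : ∀ n : ℕ, MvPolynomial (Fin n) A ⊗[A] M → MvPolynomial (Fin n) A ⊗[A] N //
          ∀ (n m : ℕ) (φ : MvPolynomial (Fin n) A →ₐ[A] MvPolynomial (Fin m) A),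
            φ.toLinearMap.rTensor N ∘ T n = T m ∘ φ.toLinearMap.rTensor M})) := by
  constructor
  · intro F G h
    refine PolynomialLaw.ext ?_
    funext S _ _ z
    obtain ⟨n, ψ, p, rfl⟩ := PolynomialLaw.exists_lift z
    have h1 : F.toFun' (MvPolynomial (Fin n) A) p = G.toFun' (MvPolynomial (Fin n) A) p :=
      congrFun (congrFun (Subtype.ext_iff.1 h) n) p
    rw [← PolynomialLaw.isCompat_apply' ψ p, h1, PolynomialLaw.isCompat_apply' ψ p]
  · rintro ⟨T, hT⟩
    have hex : ∀ (S : Type u) [CommSemiring S] [Algebra A S] (z : S ⊗[A] M), ∃ t : S ⊗[A] N,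
        ∃ (n : ℕ) (ψ : MvPolynomial (Fin n) A →ₐ[A] S) (p : MvPolynomial (Fin n) A ⊗[A] M),
          ψ.toLinearMap.rTensor M p = z ∧ t = ψ.toLinearMap.rTensor N (T n p) := fun S _ _ z => by
      obtain ⟨n, ψ, p, h⟩ := PolynomialLaw.exists_lift z
      exact ⟨_, n, ψ, p, h, rfl⟩
    refine ⟨{ toFun' := fun S _ _ z => (hex S z).choose, isCompat' := fun {S _ _ S' _ _} φ => ?_ }, ?_⟩
    · funext z
      obtain ⟨n, ψ, p, hp, ht⟩ := (hex S z).choose_spec
      obtain ⟨m, χ, q, hq, ht'⟩ := (hex S' (φ.toLinearMap.rTensor M z)).choose_spec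
      simp only [Function.comp_apply]
      rw [ht, ht', ← rTensor_comp_algHom]
      refine lift_unique₂ T hT _ _ _ _ ?_
      rw [rTensor_comp_algHom, hp, hq]
    · refine Subtype.ext (funext fun n => funext fun p => ?_)
      obtain ⟨m, χ, q, hq, ht'⟩ := (hex (MvPolynomial (Fin n) A) p).choose_spec
      refine ht'.trans ((lift_unique₂ T hT χ (AlgHom.id A _) q p ?_).trans ?_)
      · rw [hq, AlgHom.toLinearMap_id, LinearMap.rTensor_id]; rfl
      · rw [AlgHom.toLinearMap_id, LinearMap.rTensor_id]; rfl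

end Groth.Agent.ZeroCyc
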