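import Mathlib

/-!
# Few proper subspaces do not cover a vector space
-/

universe u v w

namespace Groth.Agent.ZeroCyc

/-- A vector space is not covered by at most `#k` proper subspaces. -/
theorem exists_notMem {k : Type u} [Field k] {V : Type v} [AddCommGroup V] [Module k V] {ι : Type w}
    (s : Finset ι) (p : ι → Submodule k V) (h : ∀ t ∈ s, p t ≠ ⊤)
    (hc : (s.card : Cardinal.{u}) ≤ Cardinal.mk k) : ∃ v : V, ∀ t ∈ s, v ∉ p t := by
  classical
  revert h hc
  induction s using Finset.induction_on with
  | empty => exact fun _ _ => ⟨0, by simp⟩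
  | insert j s hj ih =>
    intro hp hc
    rw [Finset.card_insert_of_notMem hj] at hc
    obtain ⟨a, ha⟩ := ih (fun t ht => hp t (Finset.mem_insert_of_mem ht))
      ((Nat.cast_le.2 s.card.le_succ).trans hc)
    by_cases haj : a ∈ p j
    · obtain ⟨b, -, hb⟩ := SetLike.exists_of_lt (lt_top_iff_ne_top.2 (hp j (Finset.mem_insert_self j s)))
      let g : k → V := fun t => if t = 0 then b else a + t • b
      have hgj : ∀ t, g t ∉ p j := by
        intro t
        by_cases ht : t = 0
        · simpa [g, ht] using hb
        · simp only [g, if_neg ht]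
          rwa [(p j).add_mem_iff_right haj, (p j).smul_mem_iff ht]
      by_contra! hall
      have hmem : ∀ t, ∃ i ∈ s, g t ∈ p i := by
        intro t
        obtain ⟨i, hi, hti⟩ := hall (g t)
        rcases Finset.mem_insert.1 hi with rfl | hi
        · exact absurd hti (hgj t)
        · exact ⟨i, hi, hti⟩
      choose F hF hgF using hmem
      have hinj : Function.Injective fun t => (⟨F t, hF t⟩ : s) := by
        intro t₁ t₂ h
        by_contra hne
        have hFeq : F t₁ = F t₂ := congrArg Subtype.val h
        have h1 := hgF t₁
        have h2 := hgF t₂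
        rw [← hFeq] at h2
        apply ha (F t₁) (hF t₁)
        by_cases hz₁ : t₁ = 0
        · have hz₂ : t₂ ≠ 0 := fun hz => hne (hz₁.trans hz.symm)
          simp only [g, if_pos hz₁] at h1
          simp only [g, if_neg hz₂] at h2
          simpa using (p (F t₁)).sub_mem h2 ((p (F t₁)).smul_mem t₂ h1)
        · simp only [g, if_neg hz₁] at h1
          by_cases hz₂ : t₂ = 0
          · simp only [g, if_pos hz₂] at h2
            simpa using (p (F t₁)).sub_mem h1 ((p (F t₁)).smul_mem t₁ h2)
          · simp only [g, if_neg hz₂] at h2
            have h3 : (t₁ - t₂) • b ∈ p (F t₁) := by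
              convert sub_mem h1 h2 using 1; module
            rw [(p (F t₁)).smul_mem_iff (sub_ne_zero.2 hne)] at h3
            simpa using (p (F t₁)).sub_mem h1 ((p (F t₁)).smul_mem t₁ h3)
      have hfin : Finite k := Finite.of_injective _ hinj
      have hle := Nat.card_le_card_of_injective _ hinj
      rw [Nat.card_eq_finsetCard] at hle
      rw [← Nat.cast_card, Nat.cast_le] at hc
      omega
    · exact ⟨a, fun t ht => by
        rcases Finset.mem_insert.1 ht with rfl | ht
        · exact haj
        · exact ha t ht⟩

end Groth.Agent.ZeroCyc
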